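import Groth.Agent.Lib.GRing6.HensExc
import Groth.Agent.Lib.GRing6.FormalFibreDomains
import Groth.Agent.Lib.GRing6.ReducedCpl
import Groth.Agent.Lib.RegLoc.GlobalDim
import Mathlib

/-! # G-rings are detected on finite free algebras -/

set_option autoImplicit false
set_option linter.style.haveILetI false
universe u

open IsLocalRing TensorProduct

namespace Groth.Agent.GRing1

open Groth.Agent.GRing6

noncomputable local instance (priority := high) cplAlgebraFF (A : Type u) [CommRing A] [IsLocalRing A] :
    Algebra A (EGA4.Cpl A) :=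
  AdicCompletion.instAlgebra _

/-- Finitely many integral elements lie in the image of a finite free algebra. -/
theorem exists_free_cover (R B : Type u) [CommRing R] [CommRing B] [Algebra R B] [DecidableEq B] (s : Finset B)
    (hs : ∀ b ∈ s, IsIntegral R b) :
    ∃ (S : Type u) (_ : CommRing S) (_ : Algebra R S) (_ : Module.Finite R S) (_ : Module.Free R S)
      (φ : S →ₐ[R] B), (s : Set B) ⊆ φ.range := by
  induction s using Finset.induction_on with
  | empty => exact ⟨R, inferInstance, inferInstance, inferInstance, inferInstance, Algebra.ofId R B, by simp⟩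
  | insert b s _ ih =>
    obtain ⟨S, _, _, _, _, φ, hφ⟩ := ih fun x hx => hs x (Finset.mem_insert_of_mem hx)
    obtain ⟨f, hf, hb⟩ := hs b (Finset.mem_insert_self _ _)
    haveI := hf.free_adjoinRoot
    haveI := hf.finite_adjoinRoot
    refine ⟨S ⊗[R] AdjoinRoot f, inferInstance, inferInstance, inferInstance, inferInstance,
      Algebra.TensorProduct.lift φ (AdjoinRoot.liftAlgHom f (Algebra.ofId R B) b hb) fun _ _ => Commute.all _ _, ?_⟩
    rw [Finset.coe_insert]
    refine Set.insert_subset ⟨1 ⊗ₜ AdjoinRoot.root f, by simp⟩ fun x hx => ?_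
    obtain ⟨y, rfl⟩ := hφ hx
    exact ⟨y ⊗ₜ 1, by simp⟩

theorem regular_descend (S C : Type u) [CommRing S] [CommRing C] [IsNoetherianRing S] [Algebra S C] [Module.Flat S C]
    (Q : Ideal C) [Q.IsPrime] (p : Ideal S) [p.IsPrime] (hp : Q.comap (algebraMap S C) = p)
    (h : IsRegularLocalRing (Localization.AtPrime Q)) : IsRegularLocalRing (Localization.AtPrime p) := by
  haveI := h
  haveI : Q.LiesOver p := ⟨hp.symm⟩
  letI := Localization.AtPrime.algebraOfLiesOver p Q
  haveI : IsLocalHom (algebraMap (Localization.AtPrime p) (Localization.AtPrime Q)) :=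
    Localization.isLocalHom_localRingHom p Q (algebraMap S C) hp.symm
  haveI : Module.Flat S (Localization.AtPrime Q) := Module.Flat.trans S C _
  haveI : Module.Flat (Localization.AtPrime p) (Localization.AtPrime Q) :=
    (Module.flat_iff_of_isLocalization (Localization.AtPrime p) p.primeCompl _).2 inferInstance
  haveI : IsNoetherianRing (Localization.AtPrime p) := IsLocalization.isNoetherianRing p.primeCompl _ inferInstance
  exact RegLoc.isRegularLocalRing_of_flat (Localization.AtPrime p) (Localization.AtPrime Q)

theorem regular_of_localized {T : Type u} [CommRing T] (S : Type u) [CommRing S] [Algebra T S] (M : Submonoid T)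
    [IsLocalization M S] (q : Ideal T) [q.IsPrime] (qS : Ideal S) [qS.IsPrime]
    (hc : qS.comap (algebraMap T S) = q) (h : IsRegularLocalRing (Localization.AtPrime qS)) :
    IsRegularLocalRing (Localization.AtPrime q) := by
  haveI := h
  subst hc
  haveI : IsLocalization.AtPrime (Localization.AtPrime qS) (qS.comap (algebraMap T S)) :=
    IsLocalization.isLocalization_isLocalization_atPrime_isLocalization M (Localization.AtPrime qS) qS
  exact IsRegularLocalRing.of_ringEquiv (R := Localization.AtPrime qS)
    (IsLocalization.algEquiv (qS.comap (algebraMap T S)).primeCompl (Localization.AtPrime qS) _).toRingEquiv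

theorem local_step (B T : Type u) [CommRing B] [CommRing T] [IsNoetherianRing B] [IsNoetherianRing T] [Algebra B T]
    [Module.Flat B T] (N q : Ideal T) [N.IsPrime] [q.IsPrime] (hqN : q ≤ N) (m0 : Ideal B)
    (hmn : m0 ≤ N.comap (algebraMap B T)) (hN' : (N.comap (algebraMap B T)).map (algebraMap B T) = N)
    (happ : ∀ t : T, ∃ b : B, t - algebraMap B T b ∈ m0.map (algebraMap B T))
    (H : ∀ (Q : Ideal (EGA4.Cpl (Localization.AtPrime (N.comap (algebraMap B T))))) [Q.IsPrime],
        Q.comap (algebraMap B (EGA4.Cpl (Localization.AtPrime (N.comap (algebraMap B T))))) =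
          q.comap (algebraMap B T) → IsRegularLocalRing (Localization.AtPrime Q)) :
    IsRegularLocalRing (Localization.AtPrime q) := by
  let n : Ideal B := N.comap (algebraMap B T)
  haveI : n.IsPrime := inferInstance
  -- local rings and their completions
  haveI : N.LiesOver n := ⟨rfl⟩
  let R := Localization.AtPrime n
  let S := Localization.AtPrime N
  letI := Localization.AtPrime.algebraOfLiesOver n N
  haveI : IsLocalHom (algebraMap R S) := Localization.isLocalHom_localRingHom n N (algebraMap B T) rfl
  haveI : Module.Flat B T := inferInstance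
  haveI : Module.Flat B S := Module.Flat.trans B T S
  haveI : Module.Flat R S := (Module.flat_iff_of_isLocalization R n.primeCompl S).2 inferInstance
  haveI : IsNoetherianRing R := IsLocalization.isNoetherianRing n.primeCompl _ inferInstance
  haveI : IsNoetherianRing S := IsLocalization.isNoetherianRing N.primeCompl _ inferInstance
  have hm : (maximalIdeal R).map (algebraMap R S) = maximalIdeal S := by
    rw [← Localization.AtPrime.map_eq_maximalIdeal (I := n), Ideal.map_map, ← IsScalarTower.algebraMap_eq,
      IsScalarTower.algebraMap_eq B T S, ← Ideal.map_map, hN', Localization.AtPrime.map_eq_maximalIdeal]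
  have hres : ∀ x : S, ∃ r : R, x - algebraMap R S r ∈ maximalIdeal S := by
    intro x
    obtain ⟨t, ⟨d, hd⟩, rfl⟩ := IsLocalization.exists_mk'_eq N.primeCompl x
    obtain ⟨b, hb⟩ := happ t
    obtain ⟨e, he⟩ := happ d
    have hmN : ∀ z ∈ m0.map (algebraMap B T), z ∈ N := fun z hz =>
      Ideal.map_le_iff_le_comap.2 hmn hz
    have hen : e ∉ n := fun h => hd (by
      have := add_mem (hmN _ he) (show algebraMap B T e ∈ N from h)
      rwa [sub_add_cancel] at this)
    refine ⟨IsLocalization.mk' R b (⟨e, (show e ∈ n.primeCompl from hen)⟩ : n.primeCompl), ?_⟩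
    have h1 : algebraMap R S (IsLocalization.mk' R b (⟨e, (show e ∈ n.primeCompl from hen)⟩ : n.primeCompl)) * algebraMap T S (algebraMap B T e) =
        algebraMap T S (algebraMap B T b) := by
      rw [← IsScalarTower.algebraMap_apply B T S, ← IsScalarTower.algebraMap_apply B T S,
        IsScalarTower.algebraMap_apply B R S, IsScalarTower.algebraMap_apply B R S, ← map_mul,
        IsLocalization.mk'_spec]
    have hu : IsUnit (algebraMap T S (algebraMap B T e)) := IsLocalization.map_units S (⟨_, (show algebraMap B T e ∈ N.primeCompl from hen)⟩ : N.primeCompl)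
    have hu' : IsUnit (algebraMap T S d) := IsLocalization.map_units S (⟨d, hd⟩ : N.primeCompl)
    have h2 : (IsLocalization.mk' S t (⟨d, hd⟩ : N.primeCompl) - algebraMap R S (IsLocalization.mk' R b (⟨e, (show e ∈ n.primeCompl from hen)⟩ : n.primeCompl))) *
        (algebraMap T S d * algebraMap T S (algebraMap B T e)) =
        algebraMap T S ((t - algebraMap B T b) * algebraMap B T e - algebraMap B T b * (d - algebraMap B T e)) := by
      have h3 : IsLocalization.mk' S t (⟨d, hd⟩ : N.primeCompl) * algebraMap T S d = algebraMap T S t :=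
        IsLocalization.mk'_spec S t (⟨d, hd⟩ : N.primeCompl)
      simp only [map_sub, map_mul]
      linear_combination algebraMap T S (algebraMap B T e) * h3 - algebraMap T S d * h1
    have h4 : algebraMap T S ((t - algebraMap B T b) * algebraMap B T e - algebraMap B T b * (d - algebraMap B T e)) ∈
        maximalIdeal S := by
      rw [← Localization.AtPrime.map_eq_maximalIdeal (I := N)]
      exact Ideal.mem_map_of_mem _ (sub_mem (Ideal.mul_mem_right _ _ (hmN _ hb)) (Ideal.mul_mem_left _ _ (hmN _ he)))
    rw [← h2] at h4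
    exact ((IsLocalRing.maximalIdeal.isMaximal S).isPrime.mem_or_mem h4).resolve_right fun h => h (hu'.mul hu)
  obtain ⟨iC, hC, hbij⟩ := exists_cpl_bijective R S hm hres
  -- a prime of the completion over `q`
  let qS := q.map (algebraMap T S)
  have hdisj : Disjoint (N.primeCompl : Set T) (q : Set T) := Set.disjoint_left.2 fun x hx hxq => hx (hqN hxq)
  haveI : qS.IsPrime := IsLocalization.isPrime_of_isPrime_disjoint N.primeCompl S q ‹_› hdisj
  have hcq : qS.comap (algebraMap T S) = q := IsLocalization.under_map_of_isPrime_disjoint N.primeCompl S ‹_› hdisj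
  haveI := CplLocH7.faithfullyFlat_cpl S
  obtain ⟨⟨Q₁, hQ₁⟩, hQeq⟩ :=
    PrimeSpectrum.comap_surjective_of_faithfullyFlat (A := S) (B := EGA4.Cpl S) ⟨qS, ‹_›⟩
  haveI := hQ₁
  have hQ₁q : Q₁.comap (algebraMap S (EGA4.Cpl S)) = qS := congrArg PrimeSpectrum.asIdeal hQeq
  let e : EGA4.Cpl R ≃+* EGA4.Cpl S := RingEquiv.ofBijective _ hbij
  let Q₀ := Q₁.comap (e : EGA4.Cpl R →+* EGA4.Cpl S)
  haveI : IsRegularLocalRing (Localization.AtPrime Q₀) := by
    refine H Q₀ ?_
    conv_rhs => rw [← hcq, ← hQ₁q]
    rw [Ideal.comap_comap, Ideal.comap_comap, Ideal.comap_comap]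
    congr 1
    refine RingHom.ext fun b => ?_
    show algebraMap (EGA4.Cpl R) (EGA4.Cpl S) (algebraMap B (EGA4.Cpl R) b) = algebraMap S (EGA4.Cpl S) (algebraMap T S (algebraMap B T b))
    rw [IsScalarTower.algebraMap_apply B R (EGA4.Cpl R), ← IsScalarTower.algebraMap_apply R (EGA4.Cpl R) (EGA4.Cpl S),
      ← IsScalarTower.algebraMap_apply B T S, IsScalarTower.algebraMap_apply B R S]
    exact IsScalarTower.algebraMap_apply R S (EGA4.Cpl S) _
  haveI : IsRegularLocalRing (Localization.AtPrime Q₁) :=
    IsRegularLocalRing.of_ringEquiv (R := Localization.AtPrime Q₀) (FlatDepth.atPrimeRingEquiv e Q₁)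
  have hreg : IsRegularLocalRing (Localization.AtPrime qS) := regular_descend S (EGA4.Cpl S) Q₁ qS hQ₁q ‹_›
  exact regular_of_localized S N.primeCompl q qS hcq hreg

/-- The completion of the local ring of a finite algebra at a prime of its completed base change. -/
theorem exists_cpl_of_prime (A B : Type u) [CommRing A] [IsLocalRing A] [IsNoetherianRing A] [CommRing B]
    [Algebra A B] [Module.Finite A B] (q : Ideal (B ⊗[A] EGA4.Cpl A)) [q.IsPrime]
    (H : ∀ (n : Ideal B) [n.IsPrime], n.comap (algebraMap A B) = maximalIdeal A →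
      ∀ (Q : Ideal (EGA4.Cpl (Localization.AtPrime n))) [Q.IsPrime],
        Q.comap (algebraMap B (EGA4.Cpl (Localization.AtPrime n))) = q.comap (algebraMap B (B ⊗[A] EGA4.Cpl A)) →
        IsRegularLocalRing (Localization.AtPrime Q)) :
    IsRegularLocalRing (Localization.AtPrime q) := by
  let Ah := EGA4.Cpl A
  let T := B ⊗[A] Ah
  haveI : IsNoetherianRing Ah := CplLocH7.isNoetherianRing_cpl A
  haveI : IsNoetherianRing B := IsNoetherianRing.of_finite A B
  haveI : IsNoetherianRing T := FlatDepth.isNoetherianRing_baseChange A Ah B (Or.inr inferInstance)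
  haveI : Module.FaithfullyFlat A Ah := CplLocH7.faithfullyFlat_cpl A
  obtain ⟨N, hN, hqN⟩ := Ideal.exists_le_maximal q (Ideal.IsPrime.ne_top ‹_›)
  letI : Algebra Ah T := Algebra.TensorProduct.rightAlgebra
  haveI : IsScalarTower A Ah T := Algebra.TensorProduct.right_isScalarTower
  haveI : Module.Finite Ah T := Module.Finite.equiv (Algebra.TensorProduct.commRight A Ah B).toLinearEquiv
  haveI : Algebra.IsIntegral Ah T := Algebra.IsIntegral.of_finite Ah T
  have hNm : N.comap (algebraMap Ah T) = maximalIdeal Ah :=
    haveI := Ideal.isMaximal_comap_of_isIntegral_of_isMaximal (R := Ah) N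
    IsLocalRing.eq_maximalIdeal inferInstance
  let n : Ideal B := N.comap (algebraMap B T)
  haveI : n.IsPrime := inferInstance
  haveI : IsLocalHom (algebraMap A Ah) := by
    refine ⟨fun a ha => ?_⟩
    by_contra hu
    have := Ideal.mem_map_of_mem (algebraMap A Ah) ((mem_maximalIdeal a).2 hu)
    rw [← CplLocH7.maximalIdeal_cpl] at this
    exact this ha
  have hn : n.comap (algebraMap A B) = maximalIdeal A := by
    show (N.comap (algebraMap B T)).comap (algebraMap A B) = _
    rw [Ideal.comap_comap, ← IsScalarTower.algebraMap_eq, IsScalarTower.algebraMap_eq A Ah T, ← Ideal.comap_comap, hNm]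
    exact le_antisymm (IsLocalRing.le_maximalIdeal (Ideal.IsPrime.ne_top (Ideal.comap_isPrime _ _)))
      (Ideal.map_le_iff_le_comap.1 (CplLocH7.maximalIdeal_cpl A).ge)
  have hmn : (maximalIdeal A).map (algebraMap A B) ≤ n := Ideal.map_le_iff_le_comap.2 hn.ge
  have hmT : ((maximalIdeal A).map (algebraMap A B)).map (algebraMap B T) =
      (maximalIdeal Ah).map (algebraMap Ah T) := by
    rw [CplLocH7.maximalIdeal_cpl, Ideal.map_map, Ideal.map_map, ← IsScalarTower.algebraMap_eq,
      ← IsScalarTower.algebraMap_eq]
  have happ : ∀ t : T, ∃ b : B, t - algebraMap B T b ∈ ((maximalIdeal A).map (algebraMap A B)).map (algebraMap B T) := by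
    intro t
    induction t using TensorProduct.induction_on with
    | zero => exact ⟨0, by simp⟩
    | add x y hx hy =>
      obtain ⟨g, hg⟩ := hx; obtain ⟨g', hg'⟩ := hy
      exact ⟨g + g', by rw [map_add, add_sub_add_comm]; exact add_mem hg hg'⟩
    | tmul x y =>
      obtain ⟨a, ha⟩ := CplLocH7.exists_sub_mem_pow (A := A) 1 y
      rw [pow_one] at ha
      refine ⟨x * algebraMap A B a, ?_⟩
      have h1 : x ⊗ₜ[A] y - algebraMap B T (x * algebraMap A B a) =
          algebraMap B T x * algebraMap Ah T (y - algebraMap A Ah a) := by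
        rw [map_sub, mul_sub, ← IsScalarTower.algebraMap_apply, map_mul, ← IsScalarTower.algebraMap_apply]
        congr 1
        show x ⊗ₜ[A] y = (x ⊗ₜ[A] (1 : Ah)) * ((1 : B) ⊗ₜ[A] y)
        rw [Algebra.TensorProduct.tmul_mul_tmul, mul_one, one_mul]
      rw [h1, hmT]
      exact Ideal.mul_mem_left _ _ (Ideal.mem_map_of_mem _ ha)
  have hN' : n.map (algebraMap B T) = N := by
    refine le_antisymm Ideal.map_comap_le fun x hx => ?_
    obtain ⟨b, hb⟩ := happ x
    have hbN : algebraMap B T b ∈ N := by
      have := sub_mem hx (Ideal.map_le_iff_le_comap.2 hmn hb)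
      rwa [sub_sub_cancel] at this
    have := add_mem (Ideal.map_mono hmn hb) (Ideal.mem_map_of_mem (algebraMap B T) (show b ∈ n from hbN))
    rwa [sub_add_cancel] at this
  exact local_step B T N q hqN ((maximalIdeal A).map (algebraMap A B)) hmn hN' happ (H n hn)

/-- The generic formal fibre of a local domain which is a quotient of a local ring with regular formal fibres. -/
theorem regular_generic_of_surjective (A L : Type u) [CommRing A] [IsLocalRing A] [IsNoetherianRing A]
    [CommRing L] [IsDomain L] [IsLocalRing L] [IsNoetherianRing L] [Algebra A L]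
    (hs : Function.Surjective (algebraMap A L))
    (h : ∀ (p : Ideal A) [p.IsPrime], IsRegularRing (EGA4.formalFibre A p))
    (Q : Ideal (EGA4.Cpl L)) [Q.IsPrime] (hQ : Q.comap (algebraMap L (EGA4.Cpl L)) = ⊥) :
    IsRegularLocalRing (Localization.AtPrime Q) := by
  let e := FlatDepth.cplSurjEquiv A L hs
  let q := Q.comap (e.toRingEquiv : L ⊗[A] EGA4.Cpl A →+* EGA4.Cpl L)
  have hq : q.comap (algebraMap L (L ⊗[A] EGA4.Cpl A)) = ⊥ := by
    rw [Ideal.comap_comap, ← hQ]
    congr 1
    exact RingHom.ext fun x => e.commutes x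
  obtain ⟨P, _, ⟨eP⟩⟩ := exists_atPrime_equiv A (EGA4.Cpl A) L (FractionRing L) q hq
  let K := FractionRing L
  let p := RingHom.ker (algebraMap A L)
  haveI : p.IsPrime := RingHom.ker_isPrime _
  have hinjL : Function.Injective (algebraMap L K) := IsFractionRing.injective L K
  have hker : p = RingHom.ker (algebraMap A K) := by
    rw [IsScalarTower.algebraMap_eq A L K, RingHom.ker_comp_of_injective _ hinjL]
  have hu : p.primeCompl ≤ (IsUnit.submonoid K).comap (algebraMap A K) := fun x hx =>
    isUnit_iff_ne_zero.2 fun h0 => hx (by rw [hker]; exact h0)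
  letI : Algebra p.ResidueField K := (Ideal.ResidueField.lift p (algebraMap A K) hker.le hu).toAlgebra
  haveI : IsScalarTower A p.ResidueField K :=
    .of_algebraMap_eq fun x => (Ideal.ResidueField.lift_algebraMap _ (algebraMap A K) hker.le hu x).symm
  have hbij : Function.Bijective (algebraMap p.ResidueField K) := by
    refine ⟨(algebraMap p.ResidueField K).injective, fun y => ?_⟩
    obtain ⟨a, b, hb, rfl⟩ := IsFractionRing.div_surjective (A := L) y
    obtain ⟨a', rfl⟩ := hs a
    obtain ⟨b', rfl⟩ := hs b
    refine ⟨algebraMap A _ a' / algebraMap A _ b', ?_⟩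
    rw [map_div₀, ← IsScalarTower.algebraMap_apply, ← IsScalarTower.algebraMap_apply,
      IsScalarTower.algebraMap_apply A L K, IsScalarTower.algebraMap_apply A L K]
  haveI := h p
  let r : p.ResidueField ≃ₐ[p.ResidueField] K := AlgEquiv.ofBijective (Algebra.ofId p.ResidueField K) hbij
  let E : EGA4.formalFibre A p ≃+* K ⊗[A] EGA4.Cpl A :=
    ((Algebra.TensorProduct.lid p.ResidueField (EGA4.formalFibre A p)).symm.toRingEquiv.trans
      (Algebra.TensorProduct.congr r AlgEquiv.refl).toRingEquiv).trans
      (Algebra.TensorProduct.cancelBaseChange A p.ResidueField p.ResidueField K (EGA4.Cpl A)).toRingEquiv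
  haveI : IsRegularRing (K ⊗[A] EGA4.Cpl A) := IsRegularRing.of_ringEquiv (R := EGA4.formalFibre A p) E
  haveI : IsRegularLocalRing (Localization.AtPrime P) := isRegularRing_iff.1 inferInstance P
  haveI : IsRegularLocalRing (Localization.AtPrime q) := IsRegularLocalRing.of_ringEquiv (R := Localization.AtPrime P) eP
  exact IsRegularLocalRing.of_ringEquiv (R := Localization.AtPrime q) (FlatDepth.atPrimeRingEquiv e.toRingEquiv Q)

theorem isGRing_of_finite_free (R : Type u) [CommRing R] [IsNoetherianRing R]
    (h : ∀ (S : Type u) [CommRing S] [Algebra R S] [Module.Finite R S] [Module.Free R S]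
        (q : Ideal S) [q.IsPrime] (p : Ideal (Localization.AtPrime q)) [p.IsPrime],
        IsRegularRing (EGA4.formalFibre (Localization.AtPrime q) p)) : CAlg.IsGRing R := by
  classical
  refine ⟨inferInstance, fun p₀ _ => ?_⟩
  let A := Localization.AtPrime p₀
  refine (regularHom_cpl_iff_finite_domains A).2 fun B _ _ _ _ q _ hq => ?_
  refine exists_cpl_of_prime A B q fun n _ hn Q _ hQ => ?_
  rw [hq] at hQ
  letI : Algebra R B := ((algebraMap A B).comp (algebraMap R A)).toAlgebra
  haveI : IsScalarTower R A B := .of_algebraMap_eq fun _ => rfl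
  haveI : IsNoetherianRing B := IsNoetherianRing.of_finite A B
  obtain ⟨T, hT⟩ := (Module.finite_def.1 ‹Module.Finite A B› : (⊤ : Submodule A B).FG)
  have hsc : ∀ b : B, ∃ m : p₀.primeCompl, IsIntegral R (m • b) := fun b =>
    IsIntegral.exists_multiple_integral_of_isLocalization p₀.primeCompl (Rₘ := A) b (Algebra.IsIntegral.isIntegral b)
  choose m hm using hsc
  obtain ⟨S, _, _, _, _, φ, hφ⟩ := exists_free_cover R B (T.image fun b => m b • b) (fun b hb => by
    obtain ⟨c, -, rfl⟩ := Finset.mem_image.1 hb
    exact hm c)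
  have hgen : ∀ b : B, ∃ s : p₀.primeCompl, (s : R) • b ∈ φ.range := by
    intro b
    have hb : b ∈ Submodule.span A (T : Set B) := hT ▸ Submodule.mem_top
    induction hb using Submodule.span_induction with
    | mem x hx => exact ⟨m x, hφ (Finset.mem_image_of_mem _ hx)⟩
    | zero => exact ⟨1, by simp⟩
    | add x y _ _ hx hy =>
      obtain ⟨s, hs⟩ := hx; obtain ⟨t, ht⟩ := hy
      refine ⟨s * t, ?_⟩
      rw [Submonoid.coe_mul, smul_add, mul_smul, mul_smul, smul_comm (s : R) (t : R) x]
      exact add_mem (φ.range.smul_mem hs _) (φ.range.smul_mem ht _)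
    | smul c x _ hx =>
      obtain ⟨s, hs⟩ := hx
      obtain ⟨a, d, rfl⟩ := IsLocalization.exists_mk'_eq p₀.primeCompl c
      refine ⟨d * s, ?_⟩
      rw [Submonoid.coe_mul, mul_smul, smul_comm (s : R) (IsLocalization.mk' A a d) x,
        ← algebraMap_smul A (d : R), ← mul_smul, IsLocalization.mk'_spec' A a d, algebraMap_smul]
      exact φ.range.smul_mem hs _
  have hunit : ∀ s : p₀.primeCompl, algebraMap R B s ∉ n := fun s hs => by
    have h1 : algebraMap R A s ∈ maximalIdeal A := by
      rw [← hn, Ideal.mem_comap, ← IsScalarTower.algebraMap_apply]; exact hs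
    exact h1 (IsLocalization.map_units A s)
  let n' := n.comap φ.toRingHom
  haveI : n'.IsPrime := Ideal.comap_isPrime _ _
  letI : Algebra (Localization.AtPrime n') (Localization.AtPrime n) :=
    (Localization.localRingHom n' n φ.toRingHom rfl).toAlgebra
  have hs : Function.Surjective (algebraMap (Localization.AtPrime n') (Localization.AtPrime n)) := by
    intro x
    obtain ⟨b, ⟨d, hd⟩, rfl⟩ := IsLocalization.exists_mk'_eq n.primeCompl x
    obtain ⟨s, y, hy⟩ := hgen b
    obtain ⟨t, z, hz⟩ := hgen d
    rw [Algebra.smul_def] at hy hz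
    let num : S := algebraMap R S t * y
    let den : S := algebraMap R S s * z
    have hden : den ∈ n'.primeCompl := fun h' => by
      have h'' : φ den ∈ n := h'
      rw [map_mul, AlgHom.commutes] at h''
      refine ((‹n.IsPrime›.mem_or_mem h'').resolve_left (hunit s)) |> fun h3 => ?_
      rw [show φ z = algebraMap R B t * d from hz] at h3
      exact ((‹n.IsPrime›.mem_or_mem h3).resolve_left (hunit t)) |> hd
    refine ⟨IsLocalization.mk' _ num ⟨den, hden⟩, ?_⟩
    show Localization.localRingHom n' n φ.toRingHom rfl _ = _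
    rw [Localization.localRingHom_mk', IsLocalization.mk'_eq_iff_eq]
    congr 1
    show d * φ num = φ den * b
    rw [map_mul, map_mul, AlgHom.commutes, AlgHom.commutes, show φ y = algebraMap R B s * b from hy,
      show φ z = algebraMap R B t * d from hz]
    ring
  haveI : IsNoetherianRing S := IsNoetherianRing.of_finite R S
  haveI : IsNoetherianRing (Localization.AtPrime n') := IsLocalization.isNoetherianRing n'.primeCompl _ inferInstance
  haveI : IsNoetherianRing (Localization.AtPrime n) := IsLocalization.isNoetherianRing n.primeCompl _ inferInstance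
  haveI : IsDomain (Localization.AtPrime n) := IsLocalization.isDomain_localization n.primeCompl_le_nonZeroDivisors
  refine regular_generic_of_surjective (Localization.AtPrime n') (Localization.AtPrime n) hs (fun P _ => h S n' P) Q ?_
  rw [← IsLocalization.map_under n.primeCompl (Localization.AtPrime n)
    (Q.comap (algebraMap (Localization.AtPrime n) (EGA4.Cpl (Localization.AtPrime n))))]
  show Ideal.map _ ((Q.comap _).comap (algebraMap B (Localization.AtPrime n))) = ⊥
  rw [Ideal.comap_comap, ← IsScalarTower.algebraMap_eq, hQ, Ideal.map_bot]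

theorem regular_formalFibres_of_isGRing (S : Type u) [CommRing S] (h : CAlg.IsGRing S) (q : Ideal S) [q.IsPrime]
    (p : Ideal (Localization.AtPrime q)) [p.IsPrime] :
    IsRegularRing (EGA4.formalFibre (Localization.AtPrime q) p) := by
  haveI := ((h.2 q).2 p).2 p.ResidueField inferInstance
  exact IsRegularRing.of_ringEquiv (R := p.ResidueField ⊗[p.ResidueField] p.Fiber (EGA4.Cpl (Localization.AtPrime q)))
    (Algebra.TensorProduct.lid p.ResidueField (p.Fiber (EGA4.Cpl (Localization.AtPrime q)))).toRingEquiv

end Groth.Agent.GRing1
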