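import Groth.Agent.Lib.GRing6.HensExc
import Groth.Agent.Lib.GRing6.Permanence
import Groth.Agent.Lib.CT6.CompleteSemilocal
import Mathlib

/-! # Formal fibres of quasi-finite algebras -/

set_option autoImplicit false
set_option linter.style.haveILetI false
universe u

open IsLocalRing TensorProduct

namespace Groth.Agent.GRing1

open Groth.Agent.GRing6

noncomputable local instance (priority := high) cplAlgebraQF (A : Type u) [CommRing A] [IsLocalRing A] :
    Algebra A (EGA4.Cpl A) :=
  AdicCompletion.instAlgebra _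

/-- A local algebra cut out of a finite algebra over a complete local ring carries the completion. -/
theorem exists_cpl_iso (L U : Type u) [CommRing L] [CommRing U] [IsLocalRing L] [IsLocalRing U]
    [IsNoetherianRing L] [IsNoetherianRing U] [IsAdicComplete (maximalIdeal U) U] [Algebra L U]
    [IsLocalHom (algebraMap L U)] [Module.Flat L U] (hm : (maximalIdeal L).map (algebraMap L U) = maximalIdeal U)
    (hres : ∀ x : U, ∃ r : L, x - algebraMap L U r ∈ maximalIdeal U) :
    ∃ e : EGA4.Cpl L ≃+* U, ∀ x : L, e (algebraMap L (EGA4.Cpl L) x) = algebraMap L U x := by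
  obtain ⟨i, hi, hb⟩ := exists_cpl_bijective L U hm hres
  let o : U ≃ₐ[U] EGA4.Cpl U := AdicCompletion.ofAlgEquiv (maximalIdeal U)
  refine ⟨(RingEquiv.ofBijective _ hb).trans o.symm.toRingEquiv, fun x => ?_⟩
  show o.symm (algebraMap (EGA4.Cpl L) (EGA4.Cpl U) (algebraMap L (EGA4.Cpl L) x)) = algebraMap L U x
  rw [← IsScalarTower.algebraMap_apply, IsScalarTower.algebraMap_apply L U (EGA4.Cpl U)]
  exact o.symm.commutes _

set_option backward.isDefEq.respectTransparency false in
theorem isArtinianRing_quot {R : Type u} [CommRing R] (T : Type u) [CommRing T] [Algebra R T] [Module.Finite R T]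
    (m : Ideal R) [m.IsMaximal] : IsArtinianRing (T ⧸ m.map (algebraMap R T)) := by
  letI : Field (R ⧸ m) := Ideal.Quotient.field m
  haveI : Module.Finite (R ⧸ m) (T ⧸ m.map (algebraMap R T)) := Module.Finite.of_restrictScalars_finite R _ _
  exact IsArtinianRing.of_finite (R ⧸ m) _

theorem isRegularRing_tensor_localization {C T U K : Type u} [CommRing C] [CommRing T] [CommRing U] [CommRing K]
    [Algebra C T] [Algebra T U] [Algebra C U] [IsScalarTower C T U] [Algebra C K] (M : Submonoid T) [IsLocalization M U]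
    (h : IsRegularRing (T ⊗[C] K)) : IsRegularRing (K ⊗[C] U) := by
  haveI := h
  haveI h1 : IsRegularRing ((T ⊗[C] K) ⊗[T] U) :=
    FlatDepth.isRegularRing_of_isLocalization (Algebra.algebraMapSubmonoid (T ⊗[C] K) M)
  exact IsRegularRing.of_ringEquiv (R := (T ⊗[C] K) ⊗[T] U)
    (((Algebra.TensorProduct.comm T (T ⊗[C] K) U).toRingEquiv.trans
      (Algebra.TensorProduct.cancelBaseChange C T T U K).toRingEquiv).trans
      (Algebra.TensorProduct.comm C U K).toRingEquiv)

theorem regular_formalFibre_step (A C L : Type u) [CommRing A] [IsLocalRing A] [IsNoetherianRing A] [CommRing C]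
    [Algebra A C] [Module.Finite A C] [CommRing L] [IsLocalRing L] [Algebra C L] [Algebra A L] [IsScalarTower A C L]
    (n : Ideal C) [n.IsPrime] (hn : n.comap (algebraMap A C) = maximalIdeal A) [IsLocalization.AtPrime L n]
    (K : Type u) [Field K] [Algebra L K] [Algebra C K] [IsScalarTower C L K] [Algebra A K] [IsScalarTower A C K]
    (h : IsRegularRing (K ⊗[A] EGA4.Cpl A)) : IsRegularRing (K ⊗[L] EGA4.Cpl L) := by
  let Ah := EGA4.Cpl A
  haveI : IsNoetherianRing Ah := CplLocH7.isNoetherianRing_cpl A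
  haveI : IsNoetherianRing C := IsNoetherianRing.of_finite A C
  haveI : IsNoetherianRing L := IsLocalization.isNoetherianRing n.primeCompl L inferInstance
  haveI : IsNoetherianRing (C ⊗[A] Ah) := FlatDepth.isNoetherianRing_baseChange A Ah C (Or.inr inferInstance)
  haveI : Module.FaithfullyFlat A Ah := CplLocH7.faithfullyFlat_cpl A
  letI : Algebra Ah (C ⊗[A] Ah) := Algebra.TensorProduct.rightAlgebra
  haveI : IsScalarTower A Ah (C ⊗[A] Ah) := Algebra.TensorProduct.right_isScalarTower
  haveI : Module.Finite Ah (C ⊗[A] Ah) := Module.Finite.equiv (Algebra.TensorProduct.commRight A Ah C).toLinearEquiv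
  let K0 := (maximalIdeal Ah).map (algebraMap Ah (C ⊗[A] Ah))
  haveI : IsAdicComplete (maximalIdeal Ah) Ah := by
    rw [CplLocH7.maximalIdeal_cpl]
    exact (IsAdicComplete.map_algebraMap_iff _ _).2 (AdicCompletion.isAdicComplete (IsNoetherian.noetherian _))
  haveI : IsAdicComplete K0 (C ⊗[A] Ah) :=
    (IsAdicComplete.map_algebraMap_iff _ _).2 (Compl.isAdicComplete_of_finite _ (C ⊗[A] Ah))
  haveI : IsArtinianRing ((C ⊗[A] Ah) ⧸ K0) := isArtinianRing_quot (C ⊗[A] Ah) (maximalIdeal Ah)
  obtain ⟨⟨P, hP⟩, hPn⟩ :=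
    PrimeSpectrum.comap_surjective_of_faithfullyFlat (A := C) (B := C ⊗[A] Ah) ⟨n, ‹_›⟩
  have hPn' : P.comap (algebraMap C (C ⊗[A] Ah)) = n := congrArg PrimeSpectrum.asIdeal hPn
  obtain ⟨N, hN, hPN⟩ := Ideal.exists_le_maximal P hP.ne_top
  haveI : Algebra.IsIntegral A C := Algebra.IsIntegral.of_finite A C
  haveI : n.IsMaximal := Ideal.isMaximal_of_isIntegral_of_isMaximal_comap (R := A) n (by rw [hn]; infer_instance)
  have hNn : N.comap (algebraMap C (C ⊗[A] Ah)) = n :=
    ((‹n.IsMaximal›).eq_of_le (Ideal.IsPrime.ne_top (Ideal.comap_isPrime _ _)) (hPn' ▸ Ideal.comap_mono hPN)).symm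
  have hmn : (maximalIdeal A).map (algebraMap A C) ≤ n := Ideal.map_le_iff_le_comap.2 hn.ge
  have hmT : ((maximalIdeal A).map (algebraMap A C)).map (algebraMap C (C ⊗[A] Ah)) = K0 := by
    show _ = (maximalIdeal Ah).map _
    rw [CplLocH7.maximalIdeal_cpl, Ideal.map_map, Ideal.map_map, ← IsScalarTower.algebraMap_eq,
      ← IsScalarTower.algebraMap_eq]
  have happ : ∀ t : C ⊗[A] Ah, ∃ b : C, t - algebraMap C _ b ∈ K0 := by
    intro t
    induction t using TensorProduct.induction_on with
    | zero => exact ⟨0, by simp⟩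
    | add x y hx hy =>
      obtain ⟨g, hg⟩ := hx; obtain ⟨g', hg'⟩ := hy
      exact ⟨g + g', by rw [map_add, add_sub_add_comm]; exact add_mem hg hg'⟩
    | tmul x y =>
      obtain ⟨a, ha⟩ := CplLocH7.exists_sub_mem_pow (A := A) 1 y
      rw [pow_one] at ha
      refine ⟨x * algebraMap A C a, ?_⟩
      have h1 : x ⊗ₜ[A] y - algebraMap C (C ⊗[A] Ah) (x * algebraMap A C a) =
          algebraMap C (C ⊗[A] Ah) x * algebraMap Ah (C ⊗[A] Ah) (y - algebraMap A Ah a) := by
        rw [map_sub, mul_sub, ← IsScalarTower.algebraMap_apply, map_mul, ← IsScalarTower.algebraMap_apply]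
        congr 1
        show x ⊗ₜ[A] y = (x ⊗ₜ[A] (1 : Ah)) * ((1 : C) ⊗ₜ[A] y)
        rw [Algebra.TensorProduct.tmul_mul_tmul, mul_one, one_mul]
      rw [h1]
      exact Ideal.mul_mem_left _ _ (Ideal.mem_map_of_mem _ ha)
  have hK0 : K0 ≤ n.map (algebraMap C (C ⊗[A] Ah)) := hmT ▸ Ideal.map_mono hmn
  have hnN : n.map (algebraMap C (C ⊗[A] Ah)) = N := by
    refine le_antisymm (Ideal.map_le_iff_le_comap.2 hNn.ge) fun x hx => ?_
    obtain ⟨b, hb⟩ := happ x
    have hbN : algebraMap C (C ⊗[A] Ah) b ∈ N := by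
      have := sub_mem hx ((hK0.trans (Ideal.map_le_iff_le_comap.2 hNn.ge)) hb)
      rwa [sub_sub_cancel] at this
    have := add_mem (hK0 hb) (Ideal.mem_map_of_mem (algebraMap C (C ⊗[A] Ah)) (show b ∈ n from (SetLike.ext_iff.1 hNn _).1 hbN))
    rwa [sub_add_cancel] at this
  obtain ⟨J, -, -, hlocJ, hlr, hcpl⟩ := CT6.exists_complete_localization (C ⊗[A] Ah) K0 N
  let U := (C ⊗[A] Ah) ⧸ J
  haveI : IsLocalization.AtPrime U N := hlocJ
  haveI : IsLocalRing U := hlr
  haveI : IsAdicComplete (maximalIdeal U) U := hcpl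
  have hunit : ∀ s : n.primeCompl, IsUnit (algebraMap C U s) := fun s => by
    rw [IsScalarTower.algebraMap_apply C (C ⊗[A] Ah) U]
    exact IsLocalization.map_units U
      (⟨_, fun h' => s.2 ((SetLike.ext_iff.1 hNn _).1 h')⟩ : N.primeCompl)
  letI : Algebra L U := (IsLocalization.lift (M := n.primeCompl) (g := algebraMap C U) hunit).toAlgebra
  haveI : IsScalarTower C L U := .of_algebraMap_eq fun x => (IsLocalization.lift_eq hunit x).symm
  haveI : Module.Flat (C ⊗[A] Ah) U := IsLocalization.flat U N.primeCompl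
  haveI : Module.Flat C U := Module.Flat.trans C (C ⊗[A] Ah) U
  haveI : Module.Flat L U := (Module.flat_iff_of_isLocalization L n.primeCompl U).2 inferInstance
  have hm : (maximalIdeal L).map (algebraMap L U) = maximalIdeal U := by
    rw [← IsLocalization.AtPrime.map_eq_maximalIdeal n L, Ideal.map_map, ← IsScalarTower.algebraMap_eq,
      IsScalarTower.algebraMap_eq C (C ⊗[A] Ah) U, ← Ideal.map_map, hnN,
      IsLocalization.AtPrime.map_eq_maximalIdeal N U]
  haveI : IsLocalHom (algebraMap L U) := ((IsLocalRing.local_hom_TFAE _).out 0 2).2 hm.le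
  have hres : ∀ x : U, ∃ r : L, x - algebraMap L U r ∈ maximalIdeal U := fun x => by
    obtain ⟨t, rfl⟩ := Ideal.Quotient.mk_surjective x
    obtain ⟨b, hb⟩ := happ t
    refine ⟨algebraMap C L b, ?_⟩
    rw [← IsScalarTower.algebraMap_apply, IsScalarTower.algebraMap_apply C (C ⊗[A] Ah) U, Ideal.Quotient.algebraMap_eq,
      ← map_sub, ← Ideal.Quotient.algebraMap_eq, ← IsLocalization.AtPrime.map_eq_maximalIdeal N U]
    exact Ideal.mem_map_of_mem _ ((hK0.trans hnN.le) hb)
  obtain ⟨e, he⟩ := exists_cpl_iso L U hm hres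
  let eA : EGA4.Cpl L ≃ₐ[L] U := AlgEquiv.ofRingEquiv (f := e) he
  haveI : IsRegularRing ((C ⊗[A] Ah) ⊗[C] K) :=
    IsRegularRing.of_ringEquiv (R := K ⊗[A] Ah)
      (((Algebra.TensorProduct.cancelBaseChange A C C K Ah).symm.toRingEquiv).trans
        (Algebra.TensorProduct.comm C K (C ⊗[A] Ah)).toRingEquiv)
  haveI : IsRegularRing (K ⊗[C] U) :=
    isRegularRing_tensor_localization (T := C ⊗[A] Ah) N.primeCompl inferInstance
  haveI := IsLocalization.tensorProduct_compatibleSMul n.primeCompl L K U
  haveI : IsRegularRing (K ⊗[L] U) :=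
    IsRegularRing.of_ringEquiv (R := K ⊗[C] U)
      (Algebra.TensorProduct.equivOfCompatibleSMul C L K K U).toRingEquiv.symm
  exact IsRegularRing.of_ringEquiv (R := K ⊗[L] U)
    (Algebra.TensorProduct.congr (AlgEquiv.refl : K ≃ₐ[L] K) eA.symm).toRingEquiv

/-- Zariski's main theorem, localized at the prime below. -/
theorem exists_finite_localization (R R' : Type u) [CommRing R] [CommRing R'] [Algebra R R'] [Algebra.FiniteType R R']
    (p' : Ideal R') [p'.IsPrime] [Algebra.QuasiFiniteAt R p']
    (A : Type u) [CommRing A] [Algebra R A] [IsLocalization.AtPrime A (p'.comap (algebraMap R R'))]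
    [Algebra A (Localization.AtPrime p')] [IsScalarTower R A (Localization.AtPrime p')] :
    ∃ (C : Type u) (_ : CommRing C) (_ : Algebra A C) (_ : Module.Finite A C) (_ : Algebra C (Localization.AtPrime p'))
      (_ : IsScalarTower A C (Localization.AtPrime p')) (n : Ideal C) (_ : n.IsPrime),
      IsLocalization.AtPrime (Localization.AtPrime p') n := by
  let L := Localization.AtPrime p'
  obtain ⟨S', hfg, r, hr, hbij⟩ :=
    (Algebra.ZariskisMainProperty.of_finiteType (R := R) p').exists_fg_and_exists_notMem_and_awayMap_bijective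
  haveI : Module.Finite R S' := Module.Finite.iff_fg.2 hfg
  have hsur : ∀ a : R', ∃ b : S', ∃ m : ℕ, (b : R') = (r : R') ^ m * a := Localization.awayMap_surjective_iff.1 hbij.2
  let ψ : A ⊗[R] S' →ₐ[A] L := Algebra.TensorProduct.lift (Algebra.ofId A L)
    ((IsScalarTower.toAlgHom R R' L).comp S'.val) fun _ _ => Commute.all _ _
  letI : Algebra (A ⊗[R] S') L := ψ.toRingHom.toAlgebra
  haveI : IsScalarTower A (A ⊗[R] S') L := .of_algebraMap_eq fun x => (ψ.commutes x).symm
  let n : Ideal (A ⊗[R] S') := (maximalIdeal L).comap ψ.toRingHom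
  haveI : n.IsPrime := Ideal.comap_isPrime _ _
  refine ⟨A ⊗[R] S', inferInstance, inferInstance, inferInstance, inferInstance, inferInstance, n, inferInstance, ?_⟩
  have hψ : ∀ y : S', ψ ((1 : A) ⊗ₜ[R] y) = algebraMap R' L (y : R') := fun y => by
    rw [Algebra.TensorProduct.lift_tmul, map_one, one_mul]; rfl
  have hmem : ∀ y : S', ((1 : A) ⊗ₜ[R] y) ∈ n ↔ (y : R') ∈ p' := fun y => by
    show ψ _ ∈ maximalIdeal L ↔ _
    rw [hψ]
    exact IsLocalization.AtPrime.to_map_mem_maximal_iff L p' (y : R')
  have hden : ∀ c : A ⊗[R] S', ∃ s : (p'.comap (algebraMap R R')).primeCompl, ∃ y : S',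
      algebraMap R (A ⊗[R] S') (s : R) * c = (1 : A) ⊗ₜ[R] y := by
    intro c
    induction c using TensorProduct.induction_on with
    | zero => exact ⟨1, 0, by simp⟩
    | tmul a y =>
      obtain ⟨x, s, rfl⟩ := IsLocalization.exists_mk'_eq (p'.comap (algebraMap R R')).primeCompl a
      refine ⟨s, x • y, ?_⟩
      rw [← Algebra.smul_def, TensorProduct.smul_tmul', Algebra.smul_def, IsLocalization.mk'_spec',
        Algebra.algebraMap_eq_smul_one, TensorProduct.smul_tmul]
    | add c d hc hd =>
      obtain ⟨s, y, hy⟩ := hc; obtain ⟨t, z, hz⟩ := hd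
      refine ⟨s * t, (t : R) • y + (s : R) • z, ?_⟩
      rw [Submonoid.coe_mul, map_mul, mul_add, mul_right_comm, hy, mul_assoc, hz, TensorProduct.tmul_add,
        TensorProduct.tmul_smul, TensorProduct.tmul_smul, ← algebraMap_smul (A ⊗[R] S') (t : R),
        ← algebraMap_smul (A ⊗[R] S') (s : R), smul_eq_mul, smul_eq_mul]
      ring
  have hsn : ∀ s : (p'.comap (algebraMap R R')).primeCompl, algebraMap R (A ⊗[R] S') (s : R) ∉ n := fun s h => by
    rw [IsScalarTower.algebraMap_apply R A (A ⊗[R] S')] at h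
    exact (Ideal.IsPrime.ne_top ‹n.IsPrime›) (Ideal.eq_top_of_isUnit_mem _ h ((IsLocalization.map_units A s).map _))
  exact
    { map_units := fun c => IsLocalRing.notMem_maximalIdeal.1 c.2
      surj := fun z => by
        obtain ⟨a, ⟨d, hd⟩, rfl⟩ := IsLocalization.exists_mk'_eq p'.primeCompl z
        obtain ⟨b, k, hb⟩ := hsur a
        obtain ⟨e, l, he⟩ := hsur d
        refine ⟨((1 : A) ⊗ₜ[R] (r ^ l * b), ⟨(1 : A) ⊗ₜ[R] (r ^ k * e), fun h => ?_⟩), ?_⟩
        · replace h := (hmem _).1 h
          rw [Subalgebra.coe_mul, Subalgebra.coe_pow, he] at h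
          exact ((‹p'.IsPrime›.mem_or_mem h).resolve_left fun h1 => hr (‹p'.IsPrime›.mem_of_pow_mem _ h1)) |>
            fun h2 => ((‹p'.IsPrime›.mem_or_mem h2).resolve_left fun h1 => hr (‹p'.IsPrime›.mem_of_pow_mem _ h1)) |> hd
        · show _ * ψ ((1 : A) ⊗ₜ[R] (r ^ k * e)) = ψ ((1 : A) ⊗ₜ[R] (r ^ l * b))
          rw [hψ, hψ, Subalgebra.coe_mul, Subalgebra.coe_mul, Subalgebra.coe_pow, Subalgebra.coe_pow, he, hb]
          rw [show (r : R') ^ k * ((r : R') ^ l * d) = d * ((r : R') ^ k * (r : R') ^ l) by ring,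
            show (r : R') ^ l * ((r : R') ^ k * a) = a * ((r : R') ^ k * (r : R') ^ l) by ring, map_mul, map_mul, ← mul_assoc]
          rw [map_mul, map_mul]
          linear_combination (algebraMap R' L ((r : R') ^ k) * algebraMap R' L ((r : R') ^ l)) *
            IsLocalization.mk'_spec L a (⟨d, hd⟩ : p'.primeCompl)
      exists_of_eq := fun {x y} hxy => by
        obtain ⟨s, w, hw⟩ := hden (x - y)
        have h0 : algebraMap R' L (w : R') = 0 := by
          rw [← hψ, ← hw, map_mul, map_sub, show ψ x = ψ y from hxy, sub_self, mul_zero]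
        obtain ⟨⟨v, hv⟩, hvw⟩ := (IsLocalization.map_eq_zero_iff p'.primeCompl L _).1 h0
        obtain ⟨b, m, hb⟩ := hsur v
        have hbw : b * w = 0 := by
          apply Subtype.ext
          show (b : R') * (w : R') = 0
          rw [hb, mul_assoc, show v * (w : R') = 0 from hvw, mul_zero]
        refine ⟨⟨((1 : A) ⊗ₜ[R] b) * algebraMap R (A ⊗[R] S') (s : R), fun h => ?_⟩, ?_⟩
        · refine ((‹n.IsPrime›.mem_or_mem h).resolve_right (hsn s)) |> fun h1 => ?_
          replace h1 := (hmem _).1 h1
          rw [hb] at h1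
          exact ((‹p'.IsPrime›.mem_or_mem h1).resolve_left fun h2 => hr (‹p'.IsPrime›.mem_of_pow_mem _ h2)) |> hv
        · rw [← sub_eq_zero]
          show _ * algebraMap R _ (s : R) * x - _ * algebraMap R _ (s : R) * y = 0
          rw [← mul_sub, mul_assoc, hw, Algebra.TensorProduct.tmul_mul_tmul, hbw, TensorProduct.tmul_zero] }

/-- Geometric regularity of formal fibres passes to quasi-finite algebras. -/
theorem geomRegular_formalFibre_of_finite (A C L : Type u) [CommRing A] [IsLocalRing A] [IsNoetherianRing A]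
    [CommRing C] [Algebra A C] [Module.Finite A C] [CommRing L] [IsLocalRing L] [Algebra C L] [Algebra A L]
    [IsScalarTower A C L] (n : Ideal C) [n.IsPrime] [IsLocalization.AtPrime L n]
    [IsLocalHom (algebraMap A L)]
    (Q' : Ideal L) [Q'.IsPrime] (Q : Ideal A) [Q.IsPrime] (hQ : Q = Q'.comap (algebraMap A L))
    (h : CAlg.IsGeometricallyRegular Q.ResidueField (EGA4.formalFibre A Q)) :
    CAlg.IsGeometricallyRegular Q'.ResidueField (EGA4.formalFibre L Q') := by
  have hn : n.comap (algebraMap A C) = maximalIdeal A := by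
    have hcm : (maximalIdeal L).comap (algebraMap A L) = maximalIdeal A :=
      Ideal.ext fun x => ⟨fun hx h => hx (h.map _), fun hx => map_nonunit _ x hx⟩
    ext a
    rw [Ideal.mem_comap, ← IsLocalization.AtPrime.to_map_mem_maximal_iff L n, ← IsScalarTower.algebraMap_apply,
      ← Ideal.mem_comap (f := algebraMap A L), hcm]
  intro K _ _ hK
  haveI := hK
  letI : Algebra L K := ((algebraMap Q'.ResidueField K).comp (algebraMap L Q'.ResidueField)).toAlgebra
  haveI : IsScalarTower L Q'.ResidueField K := .of_algebraMap_eq fun _ => rfl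
  letI : Algebra C K := ((algebraMap L K).comp (algebraMap C L)).toAlgebra
  haveI : IsScalarTower C L K := .of_algebraMap_eq fun _ => rfl
  letI : Algebra A K := ((algebraMap C K).comp (algebraMap A C)).toAlgebra
  haveI : IsScalarTower A C K := .of_algebraMap_eq fun _ => rfl
  have hAK : ∀ a : A, algebraMap A K a = algebraMap Q'.ResidueField K (algebraMap L Q'.ResidueField (algebraMap A L a)) :=
    fun a => by
      show algebraMap Q'.ResidueField K (algebraMap L _ (algebraMap C L (algebraMap A C a))) = _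
      rw [← IsScalarTower.algebraMap_apply A C L]
  have hker : Q = RingHom.ker (algebraMap A K) := by
    ext a
    rw [RingHom.mem_ker, hAK, map_eq_zero, Ideal.algebraMap_residueField_eq_zero, hQ]
    rfl
  have hu : Q.primeCompl ≤ (IsUnit.submonoid K).comap (algebraMap A K) := fun x hx =>
    isUnit_iff_ne_zero.2 fun h0 => hx (by rw [hker]; exact h0)
  letI : Algebra Q.ResidueField K := (Ideal.ResidueField.lift Q (algebraMap A K) hker.le hu).toAlgebra
  haveI : IsScalarTower A Q.ResidueField K :=
    .of_algebraMap_eq fun x => (Ideal.ResidueField.lift_algebraMap _ (algebraMap A K) hker.le hu x).symm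
  -- finiteness over the residue field
  let c := Q'.comap (algebraMap C L)
  haveI : c.LiesOver Q := ⟨by
    rw [hQ]
    show _ = (Q'.comap (algebraMap C L)).comap (algebraMap A C)
    rw [Ideal.comap_comap, ← IsScalarTower.algebraMap_eq]⟩
  haveI : Q'.LiesOver c := ⟨rfl⟩
  haveI : Module.Finite Q.ResidueField K := by
    letI := Localization.AtPrime.algebraOfLiesOver Q c
    letI := (Ideal.ResidueField.map c Q' (algebraMap C L) rfl).toAlgebra
    letI : Algebra c.ResidueField K :=
      ((algebraMap Q'.ResidueField K).comp (algebraMap c.ResidueField Q'.ResidueField)).toAlgebra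
    haveI : IsScalarTower Q.ResidueField c.ResidueField K := .of_algebraMap_eq' <| by
      refine Ideal.ResidueField.ringHom_ext (RingHom.ext fun a => ?_)
      show algebraMap Q.ResidueField K (algebraMap A _ a) =
        algebraMap Q'.ResidueField K (algebraMap c.ResidueField Q'.ResidueField
          (algebraMap Q.ResidueField c.ResidueField (algebraMap A _ a)))
      rw [← IsScalarTower.algebraMap_apply, ← IsScalarTower.algebraMap_apply A Q.ResidueField c.ResidueField, hAK,
        IsScalarTower.algebraMap_apply A C c.ResidueField, RingHom.algebraMap_toAlgebra,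
        Ideal.ResidueField.map_algebraMap, ← IsScalarTower.algebraMap_apply A C L]
    haveI : IsScalarTower c.ResidueField Q'.ResidueField K := .of_algebraMap_eq fun _ => rfl
    have hsurj : Function.Surjective (algebraMap c.ResidueField Q'.ResidueField) :=
      ((RingHom.surjectiveOnStalks_of_isLocalization n.primeCompl L).residueFieldMap_bijective c Q' rfl).2
    haveI : Module.Finite c.ResidueField Q'.ResidueField :=
      Module.Finite.of_surjective (Algebra.linearMap _ _) hsurj
    haveI : Module.Finite c.ResidueField K := Module.Finite.trans Q'.ResidueField K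
    haveI : Module.Finite Q.ResidueField c.ResidueField := inferInstance
    exact Module.Finite.trans c.ResidueField K
  haveI := h K inferInstance
  haveI : IsRegularRing (K ⊗[A] EGA4.Cpl A) :=
    IsRegularRing.of_ringEquiv (R := K ⊗[Q.ResidueField] EGA4.formalFibre A Q)
      (Algebra.TensorProduct.cancelBaseChange A Q.ResidueField Q.ResidueField K (EGA4.Cpl A)).toRingEquiv
  haveI : IsRegularRing (K ⊗[L] EGA4.Cpl L) := regular_formalFibre_step A C L n hn K inferInstance
  exact IsRegularRing.of_ringEquiv (R := K ⊗[L] EGA4.Cpl L)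
    (Algebra.TensorProduct.cancelBaseChange L Q'.ResidueField Q'.ResidueField K (EGA4.Cpl L)).toRingEquiv.symm

end Groth.Agent.GRing1
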